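import Mathlib
import Cfsg.Prelude.Def_OddOrderLocal
import Cfsg.Agent.S1398
import Cfsg.Agent.S1401
import Cfsg.Agent.S1451
import Cfsg.Agent.Lib.Helper61.BG9d
import Cfsg.Agent.Lib.Helper23.Transitivity2
import Cfsg.Agent.Lib.Helper71.BG.BG95B
import Cfsg.Agent.Lib.Helper75.BG95A
import Cfsg.Agent.Lib.Helper89.BG95.Gen3
import Cfsg.Agent.Lib.Helper97.BG95N1
import Cfsg.Agent.Lib.Helper3.BG95LemmaZ
import Cfsg.Agent.Lib.Helper2.BG.Burnside95

/-!
# Bender–Glauberman Lemma 9.5 (S1402): assembly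

`A ∈ SCN_3(P)` lies in a unique maximal subgroup of the minimal simple group `G` of odd order.

The proof follows the team's consensus argument.  Let `𝓜` be the set of maximal subgroups
containing `C_G(A)`.  Every `M ∈ 𝓜` contains `N_G(T)` for each `p`-subgroup `T ≥ A`; hence an
element `e ≠ 1` of `A ∩ N_G(A)'` (Burnside) lies in `M'` for all `M ∈ 𝓜`.  Let `Hₑ ∈ 𝓜` contain
`C_G(e)`.  A member of `𝓜` whose Fitting subgroup has rank at most two equals `Hₑ` (Lemma Z); a
member `H ≠ Hₑ` has `r_s(F(H)) ≥ 3` for some `s ≠ p`, and then a subgroup `B ≤ A` of order `p ^ 2`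
has `C_G(b) ≤ H` for all `b ∈ B#`, so that Theorem 9.1 applies.  If `𝓜 = {Hₑ}` Theorem 9.1 applies
to an elementary abelian subgroup of `A` of rank three.
-/

set_option autoImplicit false

namespace Cfsg.Agent.Lib.Helper68.BG95

open Cfsg Cfsg.Agent.Lib.Helper61

universe u

theorem s1402_core {G : Type u} [Group G] [Finite G] (hG : IsMinSimpleOddOrder G)
    (p : ℕ) [Fact p.Prime] (P : Sylow p G) (A : Subgroup G) (hA : IsSCN (P : Subgroup G) A)
    (hA3 : ¬ PRankLE p 2 ↥A) : InUniqueMaximal A := by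
  classical
  have hp : p.Prime := Fact.out
  obtain ⟨hAp, hAc, hA1, hAtop, hTH, hZ⟩ := Cfsg.Agent.Lib.Helper75.BG95.scn_facts hG p P hA hA3
  -- the case where some maximal subgroup has Fitting subgroup of `p`-rank at least three
  by_cases hp3 : ∃ M : Subgroup G, IsCoatom M ∧ ¬ PRankLE p 2 ↥(fittingOf M)
  · obtain ⟨M, hM, hF⟩ := hp3
    exact Cfsg.Agent.S1401.result hG M hM p hF A hAp hAc hA3
  have hp3' : ∀ M : Subgroup G, IsCoatom M → PRankLE p 2 ↥(fittingOf M) := by
    intro M hM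
    by_contra h
    exact hp3 ⟨M, hM, h⟩
  obtain ⟨E, hEe, hEA, hEc⟩ := bg_exists_EA_of_not_pRankLE hA3
  have hACA : A ≤ Subgroup.centralizer (A : Set G) := Cfsg.Agent.Lib.Helper71.BG.scn_le_centralizer hA
  have hKCA : piCoreOf (primesNotDvd (Nat.card A)) (Subgroup.centralizer (A : Set G)) ≤
      Subgroup.centralizer (A : Set G) := Cfsg.Agent.Lib.Helper71.BG.piCoreOf_le _ _
  have hsing : ∀ b : G, b ∈ A →
      Subgroup.centralizer (A : Set G) ≤ Subgroup.centralizer ({b} : Set G) := by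
    intro b hb
    apply Subgroup.centralizer_le
    intro x hx
    rw [Set.mem_singleton_iff] at hx
    rw [hx]
    exact hb
  -- every member of `𝓜` contains the normalizers of the `p`-subgroups over `A`
  have hNT : ∀ M : Subgroup G, IsCoatom M → Subgroup.centralizer (A : Set G) ≤ M →
      ∀ T : Subgroup G, IsPGroup p T → A ≤ T → Subgroup.normalizer (T : Set G) ≤ M := by
    intro M hM hCM T hTp hAT
    have hAM : A ≤ M := hACA.trans hCM
    have hKM := hKCA.trans hCM
    by_cases hr : RankLE 2 ↥(fittingOf M)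
    · obtain ⟨q, hq, hqY, hmax, Q, hQ1, hQ, hNQ⟩ :=
        Cfsg.Agent.Lib.Helper75.BG95.typeA_exists hG hAp hA3 hTH hM hAM hr
      have hqA : ¬ q ∣ Nat.card A := (Cfsg.Agent.Lib.Helper23.piCoreOf_isPi _ M q hq hqY).2
      have hqp : q ≠ p := by
        rintro rfl
        exact hqA (Cfsg.Agent.Lib.Helper71.BG.scn_dvd_card P hA hA3)
      have htr := Cfsg.Agent.Lib.Helper71.BG.scn_trans hG P hA hA3 hq hqp
      refine Cfsg.Agent.Lib.Helper71.BG.normalizer_le_of_pGroup hG P hA hA3 hq hqp hTp hAT M hKM ?_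
      intro Q' hQ'
      rw [Cfsg.Agent.Lib.Helper75.BG95.maxInv_eq_of_core_le hQ hNQ htr hKM hQ', hNQ]
    · obtain ⟨s, hs, hsr⟩ : ∃ s : ℕ, s.Prime ∧ ¬ PRankLE s 2 ↥(fittingOf M) := by
        by_contra hc
        apply hr
        intro s hs
        by_contra h
        exact hc ⟨s, hs, h⟩
      have : Fact s.Prime := ⟨hs⟩
      have hsp : s ≠ p := by
        rintro rfl
        exact hsr (hp3' M hM)
      obtain ⟨V, -, -, -, -, -, -, h7, -⟩ :=
        Cfsg.Agent.Lib.Helper71.BG.typeB_facts hG p P A hA hA3 M hM hAM hKM s hsp hsr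
      exact h7 T hTp hAT
  -- the element `e`
  have hne := Cfsg.Agent.Lib.Helper2.BG95.scn_inf_commutator_normalizer_ne_bot' hG P A hA hA1
  obtain ⟨⟨e, heI⟩, he1'⟩ := (Subgroup.ne_bot_iff_exists_ne_one).mp hne
  have he1 : e ≠ 1 := fun h => he1' (Subtype.ext h)
  have heA : e ∈ A := heI.1
  have heN : e ∈ ⁅Subgroup.normalizer (A : Set G), Subgroup.normalizer (A : Set G)⁆ := heI.2
  have hep : IsPGroup p (Subgroup.zpowers e) := hAp.to_le ((Subgroup.zpowers_le).mpr heA)
  obtain ⟨He, hHe, hCeHe⟩ := bg_exists_isCoatom_ge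
    (Cfsg.Agent.Lib.Helper23.centralizer_singleton_ne_top hG he1)
  have hCAHe : Subgroup.centralizer (A : Set G) ≤ He := (hsing e heA).trans hCeHe
  have hPN : (P : Subgroup G) ≤ Subgroup.normalizer (A : Set G) := hA.2.1
  have hMK : ∀ M : Subgroup G, IsCoatom M → Subgroup.centralizer (A : Set G) ≤ M →
      e ∈ ⁅M, M⁆ ∧ (P : Subgroup G) ≤ M ∧
        Subgroup.normalizer ((P : Subgroup G) : Set G) ≤ M := by
    intro M hM hCM
    have h1 := hNT M hM hCM A hAp le_rfl
    exact ⟨Subgroup.commutator_mono h1 h1 heN, hPN.trans h1,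
      hNT M hM hCM (P : Subgroup G) P.isPGroup' hA.1⟩
  -- Lemma Z: the members of `𝓜` with Fitting subgroup of rank at most two equal `Hₑ`
  have hLZ : ∀ H : Subgroup G, IsCoatom H → Subgroup.centralizer (A : Set G) ≤ H →
      RankLE 2 ↥(fittingOf H) → H = He := by
    intro H hH hCH hr
    obtain ⟨heH, hPH, -⟩ := hMK H hH hCH
    obtain ⟨-, hPHe, hNPHe⟩ := hMK He hHe hCAHe
    have hsolv : Group.IsSolvable ↥H := hG.2.2.2 H hH.1
    have hodd : Odd (Nat.card ↥H) :=
      Odd.of_dvd_nat hG.1 (Subgroup.card_subgroup_dvd_card H)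
    have hnil := (Cfsg.Agent.S1451.result hodd
      (Or.inr (Cfsg.Agent.Lib.Helper75.BG95.rankLE_fittingSubgroup_of_fittingOf hr))).1
    have hle := Cfsg.Agent.Lib.Helper3.BG95.lemmaZ' p H He hnil e heH hep hCeHe P hPH hPHe hNPHe
    exact ((hH.le_iff_eq hHe.1).mp hle).symm
  by_cases hall : ∀ H : Subgroup G, IsCoatom H → Subgroup.centralizer (A : Set G) ≤ H → H = He
  · -- `𝓜 = {Hₑ}`
    have hEHe : E ≤ He := hEA.trans (hACA.trans hCAHe)
    have hEnc : ¬ IsCyclic ↥E := by
      apply bg_not_isCyclic_of_EA hp hEe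
      have : p < p ^ 2 := by
        have := hp.one_lt
        nlinarith
      omega
    have hEU : InUniqueMaximal E := by
      refine Cfsg.Agent.S1398.result hG He hHe p E hEHe hEe hEnc (Or.inl ?_)
      intro b hb hb1
      obtain ⟨H', hH', hle⟩ := bg_exists_isCoatom_ge
        (Cfsg.Agent.Lib.Helper23.centralizer_singleton_ne_top hG hb1)
      have h1 : H' = He := hall H' hH' ((hsing b (hEA hb)).trans hle)
      rw [← h1]
      exact hle
    exact bg_unique_of_le hEU hEA hHe (hACA.trans hCAHe)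
  · -- a member `H ≠ Hₑ` of `𝓜`
    obtain ⟨H, hH, hCH, hHne⟩ : ∃ H : Subgroup G, IsCoatom H ∧
        Subgroup.centralizer (A : Set G) ≤ H ∧ H ≠ He := by
      by_contra hc
      apply hall
      intro H hH hCH
      by_contra h
      exact hc ⟨H, hH, hCH, h⟩
    have hrH : ¬ RankLE 2 ↥(fittingOf H) := fun hr => hHne (hLZ H hH hCH hr)
    obtain ⟨s, hs, hsr⟩ : ∃ s : ℕ, s.Prime ∧ ¬ PRankLE s 2 ↥(fittingOf H) := by
      by_contra hc
      apply hrH
      intro s hs
      by_contra h
      exact hc ⟨s, hs, h⟩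
    have : Fact s.Prime := ⟨hs⟩
    have hsp : s ≠ p := by
      rintro rfl
      exact hsr (hp3' H hH)
    have hAH : A ≤ H := hACA.trans hCH
    have hKH := hKCA.trans hCH
    obtain ⟨V, hVH, hVs, hHV, hVU, -, -, -, hrk⟩ :=
      Cfsg.Agent.Lib.Helper71.BG.typeB_facts hG p P A hA hA3 H hH hAH hKH s hsp hsr
    -- `e` does not centralize `V`
    have hnc : ¬ ∀ v ∈ V, v * e = e * v := by
      intro hc
      have hVCe : V ≤ Subgroup.centralizer ({e} : Set G) := by
        intro v hv
        rw [Subgroup.mem_centralizer_iff]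
        intro x hx
        rw [Set.mem_singleton_iff] at hx
        rw [hx]
        exact (hc v hv).symm
      exact hHne (bg_unique_eq hVU hH hVH hHe (hVCe.trans hCeHe))
    have hpV : ¬ p ∣ Nat.card V := by
      obtain ⟨n, hn⟩ := IsPGroup.iff_card.mp hVs
      rw [hn]
      intro h
      exact hsp ((Nat.prime_dvd_prime_iff_eq hp hs).mp (hp.dvd_of_dvd_pow h)).symm
    have hAV : A ≤ Subgroup.normalizer (V : Set G) := hAH.trans hHV
    obtain ⟨B, hBE, hBe, hBc, hBnc, v, hv, hve⟩ :=
      Cfsg.Agent.Lib.Helper89.BG95.exists_EA_sq_not_comm hEe hEc hpV (hEA.trans hAV) hnc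
    have hBA : B ≤ A := hBE.trans hEA
    have hAcomm := bg_isSCN_comm hA
    have hACB : A ≤ Subgroup.normalizer ((Subgroup.centralizer (B : Set G) : Subgroup G) : Set G) := by
      refine le_trans ?_ Subgroup.le_normalizer
      intro a ha
      rw [Subgroup.mem_centralizer_iff]
      intro b hb
      exact hAcomm b (hBA hb) a ha
    have hAW : A ≤ Subgroup.normalizer ((V ⊓ Subgroup.centralizer (B : Set G) : Subgroup G) : Set G) :=
      Cfsg.Agent.Lib.Helper75.BG95.le_normalizer_inf hAV hACB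
    have hWs : IsPGroup s ↥(V ⊓ Subgroup.centralizer (B : Set G)) := hVs.to_le inf_le_left
    have hCb : ∀ b ∈ B, b ≠ 1 → Subgroup.centralizer ({b} : Set G) ≤ H := by
      intro b hb hb1
      obtain ⟨H', hH', hle⟩ := bg_exists_isCoatom_ge
        (Cfsg.Agent.Lib.Helper23.centralizer_singleton_ne_top hG hb1)
      by_contra hcon
      have hH'ne : H' ≠ H := by
        rintro rfl
        exact hcon hle
      have hCH' : Subgroup.centralizer (A : Set G) ≤ H' := (hsing b (hBA hb)).trans hle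
      have hAH' : A ≤ H' := hACA.trans hCH'
      have hr' : PRankLE s 2 ↥H' := hrk H' hH' hAH' hH'ne
      have hWH' : V ⊓ Subgroup.centralizer (B : Set G) ≤ H' := by
        refine (inf_le_right.trans ?_).trans hle
        apply Subgroup.centralizer_le
        intro x hx
        rw [Set.mem_singleton_iff] at hx
        rw [hx]
        exact hb
      have h1 := Cfsg.Agent.Lib.Helper97.BG95.th_inf_commutator_le_centralizer hG (p := p) (q := s)
        (Ne.symm hsp) A hTH hAp H' hH'.1 hAH' hr' (V ⊓ Subgroup.centralizer (B : Set G)) hWH' hWs hAW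
      have heW : e ∈ Subgroup.centralizer
          ((V ⊓ Subgroup.centralizer (B : Set G) : Subgroup G) : Set G) :=
        h1 ⟨heA, (hMK H' hH' hCH').1⟩
      exact hve (Subgroup.mem_centralizer_iff.mp heW v hv)
    have hBU : InUniqueMaximal B :=
      Cfsg.Agent.S1398.result hG H hH p B (hBA.trans hAH) hBe hBnc (Or.inl hCb)
    exact bg_unique_of_le hBU hBA hH hAH

end Cfsg.Agent.Lib.Helper68.BG95
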