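import Mathlib
import Cfsg.Prelude.Def_OddOrderLocal
import Cfsg.Agent.S1395
import Cfsg.Agent.S0541
import Cfsg.Agent.Lib.Helper61.BG9d
import Cfsg.Agent.Lib.Helper72.BG8
import Cfsg.Agent.Lib.Helper15.BG.Signalizer
import Cfsg.Agent.Lib.Helper23.Transitivity3
import Cfsg.Agent.Lib.Helper23.ThompsonTrans
import Cfsg.Agent.Lib.Helper71.BG.BG95B
import Cfsg.Agent.Lib.Lead.BG95.Defs

/-!
# Team project S1402, package PK4

From the `WData` of a coatom `M ≥ A` at the prime `u` and a good element `b ∈ E`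
(`C_G(b) ≤ M`), the full type (B) data: `K = O_{p'}(C_G(A)) ≤ M`, every `A`-invariant
`u`-subgroup lies in `M`, and `N_G(T) ≤ M` for every `p`-subgroup `T ≥ A`.
-/

set_option autoImplicit false

namespace Cfsg.Agent.Lib.Helper68.BG95

open Cfsg Cfsg.Agent.Lib.Helper23 Cfsg.Agent.Lib.Helper61 Cfsg.Agent.Lib.Helper71.BG
open Cfsg.Agent.Lib.Lead.BG95

universe u

theorem pk4 : PK4.{u} := by
  intro G _ _ p _ A E hC M u W hW b hbE hb1 hbM
  have hp : p.Prime := Fact.out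
  have hu : u.Prime := hW.hu
  have : Fact u.Prime := ⟨hu⟩
  have hG := hC.hG
  have hM := hW.hM
  -- `K ≤ M`
  have hbA : b ∈ A := hC.hEA hbE
  have hKM : KOf A ≤ M := by
    refine (Cfsg.Agent.Lib.Helper71.BG.piCoreOf_le _ _).trans (le_trans ?_ hbM)
    exact Subgroup.centralizer_le (by
      intro x hx
      rw [Set.mem_singleton_iff] at hx
      rw [hx]
      exact hbA)
  -- arithmetic of `|A|`
  have hnu : ¬ u ∣ Nat.card A := by
    obtain ⟨n, hn⟩ := IsPGroup.iff_card.mp hC.hAp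
    rw [hn]
    intro h
    exact hW.hup ((Nat.prime_dvd_prime_iff_eq hu hp).mp (hu.dvd_of_dvd_pow h))
  have hpA : p ∣ Nat.card A := by
    have h1 : Nat.card E ∣ Nat.card A := Subgroup.card_dvd_of_le hC.hEA
    rw [hC.hE3] at h1
    exact (dvd_pow_self p (by norm_num)).trans h1
  -- the uniqueness subgroup `W`
  have hWp : IsPGroup u W := bg_isPGroup_of_isEA hW.hWe
  have hWU : InUniqueMaximal W := hW.hWU W le_rfl hW.hWnc
  have hW1 : W ≠ ⊥ := by
    rintro rfl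
    exact hW.hWnc inferInstance
  have hle : ∀ (k : G), k ∈ M → ∀ X : Subgroup G, X ≠ ⊤ →
      W.map (MulAut.conj k).toMonoidHom ≤ X → X ≤ M := by
    intro k hk X hX hWX
    obtain ⟨M', hM', hXM'⟩ := bg_exists_isCoatom_ge hX
    have hWk : W.map (MulAut.conj k).toMonoidHom ≤ M := mapConj_le_of_mem hW.hWM hk
    have := bg_unique_eq (bg_unique_mapConj hWU k) hM' (hWX.trans hXM') hM hWk
    rw [← this]
    exact hXM'
  have hWk1 : ∀ k : G, W.map (MulAut.conj k).toMonoidHom ≠ ⊥ := by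
    intro k h
    apply hW1
    rw [Subgroup.map_eq_bot_iff_of_injective _ (MulAut.conj k).injective] at h
    exact h
  have htr := hC.htr u hu hnu
  have hWinv : W ∈ invSubgroups ⊤ A {u} := ⟨le_top, primes_of_isPGroup hWp, hW.hAW⟩
  obtain ⟨S₀, hS₀, hWS₀⟩ := exists_maxInv_ge hWinv
  have hS₀M : S₀ ≤ M := by
    refine hle 1 M.one_mem S₀ (Cfsg.Agent.Lib.Helper72.BG8.isPGroup_ne_top hG
      (Cfsg.Agent.Lib.Helper15.BG.isPGroup_of_mem_invSubgroups hS₀.1)) ?_
    intro x hx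
    rw [mem_mapConj] at hx
    apply hWS₀
    simpa using hx
  have hall : ∀ S ∈ maxInvSubgroups ⊤ A {u},
      (∃ k ∈ M, W.map (MulAut.conj k).toMonoidHom ≤ S) ∧ S ≤ M := by
    intro S hS
    obtain ⟨k, hk, rfl⟩ := htr S₀ hS₀ S hS
    have hkM : k ∈ M := hKM hk
    exact ⟨⟨k, hkM, Subgroup.map_mono hWS₀⟩, mapConj_le_of_mem hS₀M hkM⟩
  have hB6 : ∀ Y : Subgroup G, IsPGroup u Y → A ≤ Subgroup.normalizer (Y : Set G) → Y ≤ M := by
    intro Y hYp hAY
    have hYinv : Y ∈ invSubgroups ⊤ A {u} := ⟨le_top, primes_of_isPGroup hYp, hAY⟩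
    obtain ⟨S', hS', hYS'⟩ := exists_maxInv_ge hYinv
    exact hYS'.trans (hall S' hS').2
  have hNS : ∀ S ∈ maxInvSubgroups ⊤ A {u}, Subgroup.normalizer (S : Set G) ≤ M := by
    intro S hS
    have hSp : IsPGroup u S := Cfsg.Agent.Lib.Helper15.BG.isPGroup_of_mem_invSubgroups hS.1
    obtain ⟨⟨k, hkM, hWkS⟩, -⟩ := hall S hS
    have hS1 : S ≠ ⊥ := by
      rintro rfl
      exact hWk1 k (le_bot_iff.mp hWkS)
    exact hle k hkM _ (Cfsg.Agent.Lib.Helper72.BG8.normalizer_ne_top_of_isPGroup hG hSp hS1)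
      (hWkS.trans Subgroup.le_normalizer)
  have hB7 : ∀ T : Subgroup G, IsPGroup p T → A ≤ T → Subgroup.normalizer (T : Set G) ≤ M := by
    intro T hTp hAT
    have hT : T ≠ ⊤ := Cfsg.Agent.Lib.Helper72.BG8.isPGroup_ne_top hG hTp
    have hPπ : ∀ r : ℕ, r.Prime → r ∣ Nat.card T → r ∣ Nat.card A := by
      intro r hr hdvd
      obtain ⟨n, hn⟩ := IsPGroup.iff_card.mp hTp
      rw [hn] at hdvd
      have : r = p := (Nat.prime_dvd_prime_iff_eq hr hp).mp (hr.dvd_of_dvd_pow hdvd)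
      rw [this]
      exact hpA
    have hsn : (A.subgroupOf T).IsSubnormal := by
      have : Group.IsNilpotent T := hTp.isNilpotent
      exact Cfsg.Agent.S0541.isSubnormal_of_isNilpotent _
    obtain ⟨ha, -, hsub, hd⟩ :=
      Cfsg.Agent.S1395.result hG A hC.hTH u hu hnu T hT hPπ hAT hsn htr
    obtain ⟨Q, hQ⟩ := Cfsg.Agent.Lib.Helper15.BG.exists_maxInv T u
    rw [(hd Q hQ).2]
    apply sup_le
    · rw [← ha]
      exact inf_le_left.trans hKM
    · exact inf_le_right.trans (hNS Q (hsub hQ))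
  exact { toWData := hW, hK := hKM, hB6 := hB6, hB7 := hB7 }

end Cfsg.Agent.Lib.Helper68.BG95
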